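import Cfsg.Prelude.Def_ChevAutomorphisms
import Cfsg.Agent.H47.GraphAut
import Cfsg.Agent.H64.Chev.SimpleGen

/-!
# Graph automorphisms act on all root elements by signs
-/

set_option autoImplicit false
set_option maxRecDepth 100000

namespace Cfsg.Agent.H64.Chev

open Cfsg.Lie Cfsg.Agent.H47

/-- The table of the symmetry [0, 1, 2, 3] of type D4. -/
def tabD4_0123 : SymTable where
  root := [0, 1, 2, 3, 4, 5, 6, 7, 8, 9, 10, 11, 12, 13, 14, 15, 16, 17, 18, 19, 20, 21, 22, 23]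
  rootInv := [0, 1, 2, 3, 4, 5, 6, 7, 8, 9, 10, 11, 12, 13, 14, 15, 16, 17, 18, 19, 20, 21, 22, 23]
  sign := [1, 1, 1, 1, 1, 1, 1, 1, 1, 1, 1, 1, 1, 1, 1, 1, 1, 1, 1, 1, 1, 1, 1, 1]
  node := [0, 1, 2, 3]
  nodeInv := [0, 1, 2, 3]

/-- The table of the symmetry [2, 1, 0, 3] of type D4. -/
def tabD4_2103 : SymTable where
  root := [0, 1, 2, 6, 7, 10, 3, 4, 8, 9, 5, 11, 12, 18, 14, 15, 19, 20, 13, 16, 17, 21, 22, 23]
  rootInv := [0, 1, 2, 6, 7, 10, 3, 4, 8, 9, 5, 11, 12, 18, 14, 15, 19, 20, 13, 16, 17, 21, 22, 23]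
  sign := [1, 1, 1, -1, -1, 1, -1, -1, 1, 1, 1, 1, 1, 1, 1, 1, -1, -1, 1, -1, -1, 1, 1, 1]
  node := [2, 1, 0, 3]
  nodeInv := [2, 1, 0, 3]

/-- The table of the symmetry [3, 1, 2, 0] of type D4. -/
def tabD4_3120 : SymTable where
  root := [0, 1, 6, 3, 8, 11, 2, 7, 4, 9, 10, 5, 18, 13, 14, 19, 16, 21, 12, 15, 20, 17, 22, 23]
  rootInv := [0, 1, 6, 3, 8, 11, 2, 7, 4, 9, 10, 5, 18, 13, 14, 19, 16, 21, 12, 15, 20, 17, 22, 23]
  sign := [1, 1, -1, 1, -1, 1, -1, 1, -1, 1, 1, 1, 1, 1, 1, -1, 1, -1, 1, -1, 1, -1, 1, 1]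
  node := [3, 1, 2, 0]
  nodeInv := [3, 1, 2, 0]

/-- The table of the symmetry [0, 1, 3, 2] of type D4. -/
def tabD4_0132 : SymTable where
  root := [0, 1, 3, 2, 4, 5, 6, 8, 7, 9, 11, 10, 13, 12, 14, 16, 15, 17, 18, 19, 21, 20, 22, 23]
  rootInv := [0, 1, 3, 2, 4, 5, 6, 8, 7, 9, 11, 10, 13, 12, 14, 16, 15, 17, 18, 19, 21, 20, 22, 23]
  sign := [1, 1, 1, 1, 1, 1, 1, 1, 1, 1, 1, 1, 1, 1, 1, 1, 1, 1, 1, 1, 1, 1, 1, 1]
  node := [0, 1, 3, 2]
  nodeInv := [0, 1, 3, 2]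

/-- The table of the symmetry [2, 1, 3, 0] of type D4. -/
def tabD4_2130 : SymTable where
  root := [0, 1, 6, 2, 7, 10, 3, 8, 4, 9, 11, 5, 18, 12, 14, 19, 15, 20, 13, 16, 21, 17, 22, 23]
  rootInv := [0, 1, 3, 6, 8, 11, 2, 4, 7, 9, 5, 10, 13, 18, 14, 16, 19, 21, 12, 15, 17, 20, 22, 23]
  sign := [1, 1, -1, 1, -1, 1, -1, 1, -1, 1, 1, 1, 1, 1, 1, -1, 1, -1, 1, -1, 1, -1, 1, 1]
  node := [2, 1, 3, 0]
  nodeInv := [3, 1, 0, 2]

/-- The table of the symmetry [3, 1, 0, 2] of type D4. -/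
def tabD4_3102 : SymTable where
  root := [0, 1, 3, 6, 8, 11, 2, 4, 7, 9, 5, 10, 13, 18, 14, 16, 19, 21, 12, 15, 17, 20, 22, 23]
  rootInv := [0, 1, 6, 2, 7, 10, 3, 8, 4, 9, 11, 5, 18, 12, 14, 19, 15, 20, 13, 16, 21, 17, 22, 23]
  sign := [1, 1, 1, -1, -1, 1, -1, -1, 1, 1, 1, 1, 1, 1, 1, 1, -1, -1, 1, -1, -1, 1, 1, 1]
  node := [3, 1, 0, 2]
  nodeInv := [2, 1, 3, 0]

/-- The table of the symmetry [0, 1, 2, 3, 4, 5] of type E6. -/
def tabE6_012345 : SymTable where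
  root := [0, 1, 2, 3, 4, 5, 6, 7, 8, 9, 10, 11, 12, 13, 14, 15, 16, 17, 18, 19, 20, 21, 22, 23, 24, 25, 26, 27, 28, 29, 30, 31, 32, 33, 34, 35, 36, 37, 38, 39, 40, 41, 42, 43, 44, 45, 46, 47, 48, 49, 50, 51, 52, 53, 54, 55, 56, 57, 58, 59, 60, 61, 62, 63, 64, 65, 66, 67, 68, 69, 70, 71]
  rootInv := [0, 1, 2, 3, 4, 5, 6, 7, 8, 9, 10, 11, 12, 13, 14, 15, 16, 17, 18, 19, 20, 21, 22, 23, 24, 25, 26, 27, 28, 29, 30, 31, 32, 33, 34, 35, 36, 37, 38, 39, 40, 41, 42, 43, 44, 45, 46, 47, 48, 49, 50, 51, 52, 53, 54, 55, 56, 57, 58, 59, 60, 61, 62, 63, 64, 65, 66, 67, 68, 69, 70, 71]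
  sign := [1, 1, 1, 1, 1, 1, 1, 1, 1, 1, 1, 1, 1, 1, 1, 1, 1, 1, 1, 1, 1, 1, 1, 1, 1, 1, 1, 1, 1, 1, 1, 1, 1, 1, 1, 1, 1, 1, 1, 1, 1, 1, 1, 1, 1, 1, 1, 1, 1, 1, 1, 1, 1, 1, 1, 1, 1, 1, 1, 1, 1, 1, 1, 1, 1, 1, 1, 1, 1, 1, 1, 1]
  node := [0, 1, 2, 3, 4, 5]
  nodeInv := [0, 1, 2, 3, 4, 5]

/-- The table of the symmetry [5, 1, 4, 3, 2, 0] of type E6. -/
def tabE6_514320 : SymTable where
  root := [0, 1, 2, 5, 16, 3, 6, 17, 8, 19, 22, 11, 26, 30, 33, 35, 4, 7, 18, 9, 20, 23, 10, 21, 24, 25, 12, 27, 31, 34, 13, 28, 32, 14, 29, 15, 56, 42, 57, 39, 43, 58, 37, 40, 44, 59, 46, 47, 50, 61, 48, 51, 62, 53, 64, 67, 36, 38, 41, 45, 60, 49, 52, 63, 54, 65, 68, 55, 66, 69, 70, 71]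
  rootInv := [0, 1, 2, 5, 16, 3, 6, 17, 8, 19, 22, 11, 26, 30, 33, 35, 4, 7, 18, 9, 20, 23, 10, 21, 24, 25, 12, 27, 31, 34, 13, 28, 32, 14, 29, 15, 56, 42, 57, 39, 43, 58, 37, 40, 44, 59, 46, 47, 50, 61, 48, 51, 62, 53, 64, 67, 36, 38, 41, 45, 60, 49, 52, 63, 54, 65, 68, 55, 66, 69, 70, 71]
  sign := [1, 1, 1, 1, -1, 1, 1, -1, 1, -1, -1, 1, -1, 1, -1, 1, -1, -1, 1, -1, 1, 1, -1, 1, 1, 1, -1, 1, -1, 1, 1, -1, 1, -1, 1, 1, 1, 1, -1, 1, -1, 1, 1, -1, 1, -1, 1, 1, 1, -1, 1, 1, -1, 1, -1, -1, 1, -1, 1, -1, 1, -1, -1, 1, -1, 1, 1, -1, 1, 1, 1, 1]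
  node := [5, 1, 4, 3, 2, 0]
  nodeInv := [5, 1, 4, 3, 2, 0]


/-- `permRoot` for a map of node numbers. -/
def permRootN (D : ChevalleyDatum) (ρ : ℕ → ℕ) (r : ℕ) : ℕ :=
  ((List.range D.nroots).find? fun s => (List.range D.rank).all fun i =>
      (D.coroot.getD s #[]).getD (ρ i) 0 == (D.coroot.getD r #[]).getD i 0).getD r

theorem permRoot_eq {D : ChevalleyDatum} (π : Equiv.Perm (Fin D.rank)) (ρ : ℕ → ℕ)
    (h : ∀ i : Fin D.rank, (π i).val = ρ i.val) (r : ℕ) : D.permRoot π r = permRootN D ρ r := by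
  unfold ChevalleyDatum.permRoot permRootN
  congr 2
  funext s
  rw [← List.map_coe_finRange_eq_range, List.all_map]
  congr 1
  funext i
  simp [h i]

/-- A table sends simple root elements to simple root elements without signs. -/
def chkPlain (D : ChevalleyDatum) (S : SymTable) : Bool :=
  S.check D && ((List.range D.rank).all fun i =>
    decide (S.π (D.simple i) = D.simple (S.ρ i)) && decide (S.π (D.neg (D.simple i)) = D.neg (D.simple (S.ρ i))) &&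
    decide (S.ε (D.simple i) = 1) && decide (S.ε (D.neg (D.simple i)) = 1)) &&
  (List.range D.nroots).all fun r => decide (permRootN D S.ρ r = S.π r)

/-- The bond condition for a list of images of the nodes. -/
def symmList (D : ChevalleyDatum) (L : List ℕ) : Bool :=
  (List.range D.rank).all fun i => (List.range D.rank).all fun j =>
    Nat.beq i j || decide (D.bonds (L.getD i 0) (L.getD j 0) = D.bonds i j)

/-- The tables cover all symmetries of the diagram. -/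
def chkCover (D : ChevalleyDatum) (Ts : List SymTable) : Bool :=
  (List.range D.rank).permutations'.all fun L => !symmList D L || Ts.any fun S => decide (S.node = L)

/-- The tables of type D₄. -/
def tabsD4 : List SymTable :=
  [tabD4_0123, tabD4_2103, tabD4_3120, tabD4_0132, tabD4_2130, tabD4_3102]

/-- The tables of type E₆. -/
def tabsE6 : List SymTable := [tabE6_012345, tabE6_514320]

theorem tabs_of_mem {D : ChevalleyDatum} (hD : D ∈ [chevD4, chevE6]) :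
    ∃ Ts : List SymTable, Ts.all (chkPlain D) = true ∧ chkCover D Ts = true := by
  simp only [List.mem_cons, List.not_mem_nil, or_false] at hD
  rcases hD with rfl | rfl
  · exact ⟨tabsD4, by decide +kernel, by decide +kernel⟩
  · exact ⟨tabsE6, by decide +kernel, by decide +kernel⟩

theorem exists_table {D : ChevalleyDatum} {Ts : List SymTable} (hcov : chkCover D Ts = true)
    {π : Equiv.Perm (Fin D.rank)} (hπ : D.IsDiagramSymmetry π) :
    ∃ S ∈ Ts, ∀ i : Fin D.rank, (π i).val = S.ρ i.val := by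
  set L : List ℕ := List.ofFn fun i => (π i).val with hL
  have hperm : L.Perm (List.range D.rank) := by
    rw [← List.map_coe_finRange_eq_range, hL, List.ofFn_eq_map, show (fun i => (π i).val) = Fin.val ∘ π from rfl, ← List.map_map]
    exact (Equiv.Perm.map_finRange_perm π).map Fin.val
  simp only [chkCover, List.all_eq_true, Bool.or_eq_true, Bool.not_eq_true', List.any_eq_true,
    decide_eq_true_eq] at hcov
  have hget : ∀ i : Fin D.rank, L.getD i.val 0 = (π i).val := fun i => by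
    simp [hL, List.getD_eq_getElem?_getD]
  rcases hcov L (List.mem_permutations'.mpr hperm) with h | ⟨S, hS, hSL⟩
  · exfalso
    have : symmList D L = true := by
      simp only [symmList, List.all_eq_true, List.mem_range, Bool.or_eq_true, decide_eq_true_eq]
      intro i hi j hj
      by_cases hij : i = j
      · subst hij; left; simp
      · right
        rw [hget ⟨i, hi⟩, hget ⟨j, hj⟩]
        exact hπ ⟨i, hi⟩ ⟨j, hj⟩ (fun h => hij (congrArg Fin.val h))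
    rw [h] at this
    exact Bool.false_ne_true this
  · refine ⟨S, hS, fun i => ?_⟩
    rw [SymTable.ρ, hSL, ← hget i]
    simp [List.getD_eq_getElem?_getD, hL]

/-- A graph automorphism without exponents maps every root element to a signed root element. -/
theorem graph_sign {F : Type*} [Field F] {D : ChevalleyDatum} (G : Cfsg.Agent.H46.Good D)
    (hdesc : chkDescend D = true) {S : SymTable} (hS : chkPlain D S = true)
    {π : Equiv.Perm (Fin D.rank)} (hρ : ∀ i : Fin D.rank, (π i).val = S.ρ i.val)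
    (φ : ↥(D.group F) ≃* ↥(D.group F))
    (hφ : ∀ (g : ↥(D.group F)) (i : Fin D.rank) (t : F),
      (((g : GL D.Idx F) : Matrix D.Idx D.Idx F) = D.x F (D.simple i) t →
        ((φ g : GL D.Idx F) : Matrix D.Idx D.Idx F) = D.x F (D.simple (π i)) t) ∧
      (((g : GL D.Idx F) : Matrix D.Idx D.Idx F) = D.x F (D.neg (D.simple i)) t →
        ((φ g : GL D.Idx F) : Matrix D.Idx D.Idx F) = D.x F (D.neg (D.simple (π i))) t))
    {r : ℕ} (hr : r < D.nroots) :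
    ∃ ε : F, (ε = 1 ∨ ε = -1) ∧ ∀ (g : ↥(D.group F)) (t : F),
      ((g : GL D.Idx F) : Matrix D.Idx D.Idx F) = D.x F r t →
        ((φ g : GL D.Idx F) : Matrix D.Idx D.Idx F) = D.x F (D.permRoot π r) (ε * t) := by
  simp only [chkPlain, Bool.and_eq_true, List.all_eq_true, List.mem_range, decide_eq_true_eq] at hS
  obtain ⟨⟨hc, hsim⟩, hperm⟩ := hS
  have heq : φ.toMonoidHom = (SymTable.groupEquiv hc F).toMonoidHom := by
    refine hom_ext_simple G hdesc _ _ (fun i hi t => ?_) (fun i hi t => ?_) <;>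
      apply Subtype.ext <;> apply Units.ext <;>
      obtain ⟨⟨⟨h1, h2⟩, h3⟩, h4⟩ := hsim i hi <;>
      simp only [MulEquiv.coe_toMonoidHom, SymTable.groupEquiv_coe, Cfsg.Agent.H46.Good.coe_xg]
    · rw [(hφ _ ⟨i, hi⟩ t).1 rfl, SymTable.matEquiv_x hc F _ (G.simple_lt hi), h1, h3, hρ ⟨i, hi⟩,
        Int.cast_one, one_mul]
    · rw [(hφ _ ⟨i, hi⟩ t).2 rfl, SymTable.matEquiv_x hc F _ (G.neg_lt (G.simple_lt hi)), h2, h4,
        hρ ⟨i, hi⟩, Int.cast_one, one_mul]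
  refine ⟨((S.ε r : ℤ) : F), ?_, fun g t hg => ?_⟩
  · rcases ((SymTable.check_spec hc).2.2.2 r hr).2.2.2.1 with h | h <;> simp [h]
  · rw [show φ g = SymTable.groupEquiv hc F g from DFunLike.congr_fun heq g,
      SymTable.groupEquiv_coe, hg, SymTable.matEquiv_x hc F r hr, permRoot_eq π S.ρ hρ, hperm r hr]

end Cfsg.Agent.H64.Chev
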